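import Cfsg.Agent.H135.TwoGen
import Cfsg.Agent.H70.OutCount
import Cfsg.Agent.H136.FieldLem

/-!
# Twisted Steinberg pairs in the automorphism groups of the untwisted Chevalley groups (S4180): generic part (helper20)

* `Mono W ω d σ` : the automorphism `W` maps `x_r(t)` to `x_{ω r}(d_r σ(t))` for all roots `r`;
* `core` : the torus trick in `MulAut G`;
* `tor`, `pr`, `mono_tor` : inner torus elements and the adjustment of two root values;
* `hat`, `run_sound'` : the closure computations with a general rotation.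
-/

set_option autoImplicit false

namespace Cfsg.Agent.H20.Cos2

open Cfsg.Lie Cfsg.Agent.ChevalleyStructure Cfsg.Agent.ChevalleyStructure.Elts
  Cfsg.Agent.ChevalleyStructure.NConj Cfsg.Agent.ChevalleyStructure.BNChev
  Cfsg.Agent.H70.ChevFix Cfsg.Agent.H70.ChevField Cfsg.Agent.H70.OutCount Cfsg.Agent.H135.TwoG

universe u

variable {D : ChevalleyDatum} {F : Type u} [Field F]

/-- `W (x_r(t)) = x_{ω r}(d_r σ(t))` for all roots `r` -/
structure Mono (hD : InList D) (W : MulAut ↥(D.group F)) (ω : ℕ → ℕ) (d : ℕ → Fˣ) (σ : F ≃+* F) : Prop where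
  lt : ∀ r < D.nroots, ω r < D.nroots
  surj : ∀ r < D.nroots, ∃ s < D.nroots, ω s = r
  eq : ∀ r < D.nroots, ∀ t : F, W (xe hD r t) = xe hD (ω r) ((d r : F) * σ t)

variable {hD : InList D}

theorem Mono.one : Mono hD (1 : MulAut ↥(D.group F)) id (fun _ => 1) (RingEquiv.refl F) where
  lt r hr := hr
  surj r hr := ⟨r, hr, rfl⟩
  eq r hr t := by simp

theorem Mono.mul {W W' : MulAut ↥(D.group F)} {ω ω' : ℕ → ℕ} {d d' : ℕ → Fˣ} {σ σ' : F ≃+* F}
    (h : Mono hD W ω d σ) (h' : Mono hD W' ω' d' σ') :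
    Mono hD (W * W') (fun r => ω (ω' r)) (fun r => d (ω' r) * Units.map (σ : F →* F) (d' r)) (σ'.trans σ) where
  lt r hr := h.lt _ (h'.lt r hr)
  surj r hr := by
    obtain ⟨s, hs, rfl⟩ := h.surj r hr
    obtain ⟨u, hu, rfl⟩ := h'.surj s hs
    exact ⟨u, hu, rfl⟩
  eq r hr t := by
    rw [MulAut.mul_apply, h'.eq r hr, h.eq _ (h'.lt r hr)]
    congr 1
    rw [map_mul, Units.val_mul, mul_assoc]
    rfl

/-- changing the description -/
theorem Mono.congr {W : MulAut ↥(D.group F)} {ω ω' : ℕ → ℕ} {d d' : ℕ → Fˣ} {σ : F ≃+* F}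
    (h : Mono hD W ω d σ) (h1 : ∀ r < D.nroots, ω' r = ω r) (h2 : ∀ r < D.nroots, d' r = d r) :
    Mono hD W ω' d' σ where
  lt r hr := by rw [h1 r hr]; exact h.lt r hr
  surj r hr := by
    obtain ⟨s, hs, h3⟩ := h.surj r hr
    exact ⟨s, hs, (h1 s hs).trans h3⟩
  eq r hr t := by rw [h1 r hr, h2 r hr]; exact h.eq r hr t

/-- the inverse on a root subgroup -/
theorem Mono.inv_apply {W : MulAut ↥(D.group F)} {ω : ℕ → ℕ} {d : ℕ → Fˣ} {σ : F ≃+* F}
    (h : Mono hD W ω d σ) {r : ℕ} (hr : r < D.nroots) (t : F) :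
    W⁻¹ (xe hD (ω r) t) = xe hD r (σ.symm ((d r : F)⁻¹ * t)) := by
  apply W.injective
  rw [MulAut.apply_inv_self, h.eq r hr, σ.apply_symm_apply, mul_inv_cancel_left₀ (d r).ne_zero]

/-! ### inner automorphisms -/

theorem conj_conj {G : Type*} [Group G] (φ : MulAut G) (g : G) :
    φ * MulAut.conj g * φ⁻¹ = MulAut.conj (φ g) := by
  ext x
  simp only [MulAut.mul_apply, MulAut.conj_apply, map_mul, map_inv, MulAut.apply_inv_self]

theorem conj_xe_comm {h : MulAut ↥(D.group F)} {χ : ℕ → Fˣ} (hh : Mono hD h id χ (RingEquiv.refl F))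
    {a : ℕ} (ha : a < D.nroots) (t : F) :
    h * MulAut.conj (xe hD a t) * h⁻¹ = MulAut.conj (xe hD a ((χ a : F) * t)) := by
  rw [conj_conj, hh.eq a ha]
  rfl

theorem conj_xe_inj (hD : InList D) {a : ℕ} (ha : a < D.nroots) {s t : F}
    (h : MulAut.conj (xe hD a s) = MulAut.conj (xe hD a t)) : s = t :=
  xe_inj hD ha (conj_injective hD h)

/-! ### the torus trick -/

/-- the conjugate of a diagonal automorphism by a monomial one, on the root subgroups -/
theorem conj_diag {h W : MulAut ↥(D.group F)} {χ d : ℕ → Fˣ} {ω : ℕ → ℕ} {σ : F ≃+* F}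
    (hh : Mono hD h id χ (RingEquiv.refl F)) (hW : Mono hD W ω d σ) {r : ℕ} (hr : r < D.nroots) (t : F) :
    (W * h * W⁻¹) (xe hD (ω r) t) = xe hD (ω r) (σ (χ r) * t) := by
  rw [MulAut.mul_apply, MulAut.mul_apply, hW.inv_apply hr, hh.eq r hr, id, hW.eq r hr]
  congr 1
  rw [RingEquiv.refl_apply, map_mul, σ.apply_symm_apply]
  have := (d r).ne_zero
  field_simp

theorem conj_diag_inv {h W : MulAut ↥(D.group F)} {χ d : ℕ → Fˣ} {ω : ℕ → ℕ} {σ : F ≃+* F}
    (hh : Mono hD h id χ (RingEquiv.refl F)) (hW : Mono hD W ω d σ) {r : ℕ} (hr : r < D.nroots) (t : F) :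
    (W * h * W⁻¹)⁻¹ (xe hD (ω r) t) = xe hD (ω r) ((σ (χ r))⁻¹ * t) := by
  apply (W * h * W⁻¹).injective
  rw [MulAut.apply_inv_self, conj_diag hh hW hr, mul_inv_cancel_left₀]
  exact (map_ne_zero σ).2 (χ r).ne_zero

/-- **the torus trick for the pair `h`, `u W`** -/
theorem core [Finite F] {M : Subgroup (MulAut ↥(D.group F))} {h W : MulAut ↥(D.group F)} {χ d : ℕ → Fˣ} {ω : ℕ → ℕ}
    {σ : F ≃+* F} (hh : Mono hD h id χ (RingEquiv.refl F)) (hW : Mono hD W ω d σ) {a a' : ℕ} (ha : a < D.nroots)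
    (ha' : a' < D.nroots) (haa : ω a' = a) (hk : ∀ x : Fˣ, x ∈ Subgroup.zpowers (χ a)) (hne : χ a ≠ 1)
    (hne' : χ a' ≠ 1) (hM : h ∈ M) (hWM : MulAut.conj (xe hD a 1) * W ∈ M) :
    (∀ t : F, MulAut.conj (xe hD a t) ∈ M) ∧ W ∈ M := by
  classical
  set X : Subgroup (MulAut ↥(D.group F)) := (XX D F a).map MulAut.conj with hX
  have memX : ∀ φ : MulAut ↥(D.group F), φ ∈ X ↔ ∃ t : F, φ = MulAut.conj (xe hD a t) := by
    intro φ
    rw [hX, Subgroup.mem_map]
    constructor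
    · rintro ⟨g, hg, rfl⟩
      obtain ⟨t, rfl⟩ := (mem_XX hD).1 hg
      exact ⟨t, rfl⟩
    · rintro ⟨t, rfl⟩
      exact ⟨_, xe_mem_XX hD a t, rfl⟩
  have hne0 : σ (χ a') ≠ 0 := (map_ne_zero σ).2 (χ a').ne_zero
  have hnek : (χ a : F) ≠ 1 := fun h0 => hne (Units.ext h0)
  have res := Cfsg.Agent.H136.TwoGen.torus_trick M X (h := h) (w := W) (u := MulAut.conj (xe hD a 1)) hM hWM
    ((memX _).2 ⟨1, rfl⟩) ?_ ?_ ?_ ?_ ?_ ?_ ?_
  · exact ⟨fun t => res.1 ((memX _).2 ⟨t, rfl⟩), res.2⟩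
  · intro x hx
    obtain ⟨t, rfl⟩ := (memX x).1 hx
    rw [conj_conj, ← haa, conj_diag hh hW ha', haa]
    exact (memX _).2 ⟨_, rfl⟩
  · intro x hx
    obtain ⟨t, rfl⟩ := (memX x).1 hx
    have e : (W * h * W⁻¹)⁻¹ * MulAut.conj (xe hD a t) * (W * h * W⁻¹) =
        (W * h * W⁻¹)⁻¹ * MulAut.conj (xe hD a t) * ((W * h * W⁻¹)⁻¹)⁻¹ := by rw [inv_inv]
    rw [e, conj_conj, ← haa, conj_diag_inv hh hW ha', haa]
    exact (memX _).2 ⟨_, rfl⟩
  · intro Y hYX hY
    let S : AddSubgroup F :=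
      { carrier := {t | MulAut.conj (xe hD a t) ∈ Y}
        zero_mem' := by
          show MulAut.conj (xe hD a 0) ∈ Y
          rw [xe_zero, map_one]; exact Y.one_mem
        add_mem' := by
          intro s t hs ht
          show MulAut.conj (xe hD a (s + t)) ∈ Y
          rw [xe_add, map_mul]; exact Y.mul_mem hs ht
        neg_mem' := by
          intro s hs
          show MulAut.conj (xe hD a (-s)) ∈ Y
          rw [xe_neg, map_inv]; exact Y.inv_mem hs }
    have hS : ∀ t, t ∈ S ↔ MulAut.conj (xe hD a t) ∈ Y := fun t => Iff.rfl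
    rcases Cfsg.Agent.H136.FieldLem.eq_bot_or_top hk S (by
      intro t ht
      have h1 : ∀ t ∈ S, (χ a : F) * t ∈ S := by
        intro t ht
        have := hY _ ht
        rwa [conj_xe_comm hh ha] at this
      have h2 := h1 _ (h1 _ ht)
      rwa [← mul_assoc, ← pow_two] at h2) with h1 | h1
    · left
      rw [Subgroup.eq_bot_iff_forall]
      intro y hy
      obtain ⟨t, rfl⟩ := (memX y).1 (hYX hy)
      have : t ∈ S := hy
      rw [h1, AddSubgroup.mem_bot] at this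
      rw [this, xe_zero, map_one]
    · right
      refine le_antisymm hYX fun y hy => ?_
      obtain ⟨t, rfl⟩ := (memX y).1 hy
      have : t ∈ S := by rw [h1]; exact AddSubgroup.mem_top t
      exact this
  · refine ⟨MulAut.conj (xe hD a 1), (memX _).2 ⟨1, rfl⟩, fun h0 => ?_⟩
    have h1 := conj_xe_comm hh ha 1
    rw [h0, mul_inv_cancel_right, mul_one] at h1
    exact hnek (conj_xe_inj hD ha h1).symm
  · intro x hx
    obtain ⟨t, rfl⟩ := (memX x).1 hx
    rw [conj_xe_comm hh ha]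
    exact (memX _).2 ⟨_, rfl⟩
  · -- the two diagonal automorphisms commute
    have key : ∀ r < D.nroots, ∃ c : F, ∀ t : F, (W * h * W⁻¹) (xe hD r t) = xe hD r (c * t) := by
      intro r hr
      obtain ⟨s, hs, rfl⟩ := hW.surj r hr
      exact ⟨_, conj_diag hh hW hs⟩
    have key2 : ∀ r < D.nroots, ∀ t : F, (h * (W * h * W⁻¹)) (xe hD r t) = ((W * h * W⁻¹) * h) (xe hD r t) := by
      intro r hr t
      obtain ⟨c, hc⟩ := key r hr
      have e1 : (h * (W * h * W⁻¹)) (xe hD r t) = h ((W * h * W⁻¹) (xe hD r t)) := rfl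
      have e2 : ((W * h * W⁻¹) * h) (xe hD r t) = (W * h * W⁻¹) (h (xe hD r t)) := rfl
      rw [e1, e2, hc, hh.eq r hr, hh.eq r hr]
      simp only [id, RingEquiv.refl_apply]
      rw [hc]
      congr 1
      ring
    exact ext_values hD (fun i t => key2 _ (Cfsg.Agent.S1042.simple_lt hD i.2) t) (fun i t => key2 _ (neg_simple_lt hD i.2) t)
  · intro h0
    have h1 : (W * h * W⁻¹) * MulAut.conj (xe hD a 1) * (W * h * W⁻¹)⁻¹ = MulAut.conj (xe hD a (σ (χ a') * 1)) := by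
      rw [conj_conj, ← haa, conj_diag hh hW ha']
    rw [h0, mul_inv_cancel_right, mul_one] at h1
    have h2 := conj_xe_inj hD ha h1
    apply hne'
    apply Units.ext
    have h3 : σ (χ a' : F) = σ 1 := by rw [map_one]; exact h2.symm
    exact σ.injective h3

/-! ### inner torus elements -/

/-- `∏ h_j(z ^ n_j)` -/
noncomputable def tor (hD : InList D) (n : ℕ → ℤ) (z : Fˣ) : ℕ → ↥(D.group F)
  | 0 => 1
  | k + 1 => tor hD n z k * he hD (D.simple k) ((z ^ n k : Fˣ) : F)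

/-- `∑ n_j A_{j, s}` -/
def pr (D : ChevalleyDatum) (n : ℕ → ℤ) (s : ℕ) : ℕ → ℤ
  | 0 => 0
  | k + 1 => pr D n s k + n k * D.cartan k s

theorem tor_conj {n : ℕ → ℤ} {z : Fˣ} {k : ℕ} (hk : k ≤ D.rank) {s : ℕ} (hs : s < D.nroots) (t : F) :
    tor hD n z k * xe hD s t * (tor hD n z k)⁻¹ = xe hD s (((z ^ pr D n s k : Fˣ) : F) * t) := by
  induction k generalizing t with
  | zero => simp [tor, pr]
  | succ k ih =>
    have h1 := he_conj (F := F) hD (show k < D.rank by omega) hs (c := ((z ^ n k : Fˣ) : F)) (Units.ne_zero _) t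
    calc tor hD n z (k + 1) * xe hD s t * (tor hD n z (k + 1))⁻¹
        = tor hD n z k * (he hD (D.simple k) ((z ^ n k : Fˣ) : F) * xe hD s t *
            (he hD (D.simple k) ((z ^ n k : Fˣ) : F))⁻¹) * (tor hD n z k)⁻¹ := by
          show tor hD n z k * he hD (D.simple k) ((z ^ n k : Fˣ) : F) * xe hD s t *
            (tor hD n z k * he hD (D.simple k) ((z ^ n k : Fˣ) : F))⁻¹ = _
          group
      _ = xe hD s (((z ^ pr D n s k : Fˣ) : F) * ((((z ^ n k : Fˣ) : F)) ^ D.cartan k s * t)) := by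
          rw [h1, ih (by omega)]
      _ = _ := by
          congr 1
          show _ = ((z ^ (pr D n s k + n k * D.cartan k s) : Fˣ) : F) * t
          rw [zpow_add, Units.val_mul, mul_assoc, zpow_mul]
          simp

theorem mono_tor (n : ℕ → ℤ) (z : Fˣ) :
    Mono hD (MulAut.conj (tor hD n z D.rank)) id (fun s => z ^ pr D n s D.rank) (RingEquiv.refl F) where
  lt r hr := hr
  surj r hr := ⟨r, hr, rfl⟩
  eq r hr t := by
    rw [MulAut.conj_apply, tor_conj le_rfl hr]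
    rfl

theorem mono_word {l : List ℕ} (hl : ∀ i ∈ l, i < D.rank) :
    ∃ d : ℕ → Fˣ, Mono hD (MulAut.conj (⟨wG hD F l, wG_mem_group hD l⟩ : ↥(D.group F))) (wact D l) d
      (RingEquiv.refl F) := by
  classical
  have h : ∀ r : ℕ, ∃ η : Fˣ, r < D.nroots → ∀ t : F, wG hD F l * xG hD r t * (wG hD F l)⁻¹ =
      xG hD (wact D l r) ((η : F) * t) := by
    intro r
    by_cases hr : r < D.nroots
    · obtain ⟨η, hη, h1⟩ := wG_conj (F := F) hD hl hr
      rcases hη with rfl | rfl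
      · exact ⟨1, fun _ t => by rw [h1, Units.val_one]⟩
      · exact ⟨-1, fun _ t => by rw [h1, Units.val_neg, Units.val_one]⟩
    · exact ⟨1, fun h => absurd h hr⟩
  choose d hd using h
  refine ⟨d, ⟨fun r hr => wact_lt hD hl hr, ?_, ?_⟩⟩
  · intro r hr
    have surj : ∀ {l : List ℕ} (_ : ∀ i ∈ l, i < D.rank) {r : ℕ} (_ : r < D.nroots),
        ∃ s < D.nroots, wact D l s = r := by
      intro l
      induction l with
      | nil => intro _ r hr; exact ⟨r, hr, rfl⟩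
      | cons i l ih =>
        intro hl r hr
        have hi := hl i List.mem_cons_self
        obtain ⟨s, hs, h1⟩ := ih (fun j hj => hl j (List.mem_cons_of_mem _ hj))
          (Cfsg.Agent.ChevalleyStructure.Reach.reflect_lt hD hi hr)
        refine ⟨s, hs, ?_⟩
        show D.reflectRoot i (wact D l s) = r
        rw [h1, Cfsg.Agent.ChevalleyStructure.Reach.reflect_reflect hD hi hr]
    exact surj hl hr
  · intro r hr t
    apply Subtype.ext
    exact hd r hr t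

/-! ### adjusting the values of a diagonal automorphism -/

/-- **every coset of the inner automorphisms which contains a diagonal automorphism contains one with prescribed
values at two roots**; `n1`, `n2` are given by tables -/
theorem adjust {h : MulAut ↥(D.group F)} {χ : ℕ → Fˣ} (hh : Mono hD h id χ (RingEquiv.refl F)) {a a' : ℕ}
    {n1 n2 : ℕ → ℤ} (h1 : pr D n1 a D.rank = 1) (h2 : pr D n1 a' D.rank = 0) (h3 : pr D n2 a D.rank = 0)
    (h4 : pr D n2 a' D.rank = 1) (k k' : Fˣ) :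
    ∃ (g : ↥(D.group F)) (χ' : ℕ → Fˣ), Mono hD (h * MulAut.conj g) id χ' (RingEquiv.refl F) ∧ χ' a = k ∧
      χ' a' = k' := by
  have hm := (hh.mul (mono_tor (hD := hD) n1 ((χ a)⁻¹ * k))).mul (mono_tor (hD := hD) n2 ((χ a')⁻¹ * k'))
  refine ⟨tor hD n1 ((χ a)⁻¹ * k) D.rank * tor hD n2 ((χ a')⁻¹ * k') D.rank,
    fun r => χ r * ((χ a)⁻¹ * k) ^ pr D n1 r D.rank * ((χ a')⁻¹ * k') ^ pr D n2 r D.rank, ?_, ?_, ?_⟩
  · rw [map_mul, ← mul_assoc]
    refine ⟨fun r hr => hr, fun r hr => ⟨r, hr, rfl⟩, fun r hr t => ?_⟩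
    exact hm.eq r hr t
  · show χ a * ((χ a)⁻¹ * k) ^ pr D n1 a D.rank * ((χ a')⁻¹ * k') ^ pr D n2 a D.rank = k
    rw [h1, h3, zpow_one, zpow_zero, mul_one, mul_inv_cancel_left]
  · show χ a' * ((χ a)⁻¹ * k) ^ pr D n1 a' D.rank * ((χ a')⁻¹ * k') ^ pr D n2 a' D.rank = k'
    rw [h2, h4, zpow_one, zpow_zero, mul_one, mul_inv_cancel_left]

/-- the same for plain statements -/
theorem adjust' (hD : InList D) {h : MulAut ↥(D.group F)} {χ : ℕ → Fˣ}
    (hh : ∀ r < D.nroots, ∀ t : F, h (xe hD r t) = xe hD r ((χ r : F) * t)) {a a' : ℕ}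
    {n1 n2 : ℕ → ℤ} (h1 : pr D n1 a D.rank = 1) (h2 : pr D n1 a' D.rank = 0) (h3 : pr D n2 a D.rank = 0)
    (h4 : pr D n2 a' D.rank = 1) (k k' : Fˣ) :
    ∃ (g : ↥(D.group F)) (χ' : ℕ → Fˣ),
      (∀ r < D.nroots, ∀ t : F, (h * MulAut.conj g) (xe hD r t) = xe hD r ((χ' r : F) * t)) ∧ χ' a = k ∧ χ' a' = k' := by
  obtain ⟨g, χ', h5, h6, h7⟩ := adjust (hD := hD) (h := h) (χ := χ) ⟨fun r hr => hr, fun r hr => ⟨r, hr, rfl⟩, hh⟩
    h1 h2 h3 h4 k k'
  exact ⟨g, χ', h5.eq, h6, h7⟩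

/-- **adjustment of a graph type automorphism**: `x` with an involutory root permutation `ω`; the square of
`x * conj g` has prescribed values at two roots; `n1`, `n2` are given by tables. -/
theorem adjust_sq {x : MulAut ↥(D.group F)} {ω : ℕ → ℕ} {d : ℕ → Fˣ} (hx : Mono hD x ω d (RingEquiv.refl F))
    (hω : ∀ r < D.nroots, ω (ω r) = r) {a a' : ℕ}
    {n1 n2 : ℕ → ℤ} (h1 : pr D n1 a D.rank + pr D n1 (ω a) D.rank = 1)
    (h2 : pr D n1 a' D.rank + pr D n1 (ω a') D.rank = 0) (h3 : pr D n2 a D.rank + pr D n2 (ω a) D.rank = 0)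
    (h4 : pr D n2 a' D.rank + pr D n2 (ω a') D.rank = 1) (k k' : Fˣ) :
    ∃ (g : ↥(D.group F)) (χ' : ℕ → Fˣ), Mono hD ((x * MulAut.conj g) * (x * MulAut.conj g)) id χ' (RingEquiv.refl F) ∧
      χ' a = k ∧ χ' a' = k' := by
  set z1 : Fˣ := (d (ω a) * d a)⁻¹ * k with hz1
  set z2 : Fˣ := (d (ω a') * d a')⁻¹ * k' with hz2
  have hm := (hx.mul (mono_tor (hD := hD) n1 z1)).mul (mono_tor (hD := hD) n2 z2)
  have hmm := hm.mul hm
  refine ⟨tor hD n1 z1 D.rank * tor hD n2 z2 D.rank,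
    fun r => d (ω r) * z1 ^ pr D n1 (ω r) D.rank * z2 ^ pr D n2 (ω r) D.rank *
      (d r * z1 ^ pr D n1 r D.rank * z2 ^ pr D n2 r D.rank), ?_, ?_, ?_⟩
  · have e0 : x * MulAut.conj (tor hD n1 z1 D.rank * tor hD n2 z2 D.rank) =
        x * MulAut.conj (tor hD n1 z1 D.rank) * MulAut.conj (tor hD n2 z2 D.rank) := by
      rw [map_mul, ← mul_assoc]
    rw [e0]
    refine ⟨fun r hr => hr, fun r hr => ⟨r, hr, rfl⟩, fun r hr t => ?_⟩
    rw [hmm.eq r hr]
    simp only [id, hω r hr]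
    congr 1
  · show d (ω a) * z1 ^ pr D n1 (ω a) D.rank * z2 ^ pr D n2 (ω a) D.rank *
      (d a * z1 ^ pr D n1 a D.rank * z2 ^ pr D n2 a D.rank) = k
    have e : d (ω a) * z1 ^ pr D n1 (ω a) D.rank * z2 ^ pr D n2 (ω a) D.rank *
      (d a * z1 ^ pr D n1 a D.rank * z2 ^ pr D n2 a D.rank) =
      d (ω a) * d a * z1 ^ (pr D n1 a D.rank + pr D n1 (ω a) D.rank) *
        z2 ^ (pr D n2 a D.rank + pr D n2 (ω a) D.rank) := by
      rw [zpow_add, zpow_add]
      simp only [mul_comm, mul_left_comm, mul_assoc]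
    rw [e, h1, h3, zpow_one, zpow_zero, mul_one, hz1, mul_inv_cancel_left]
  · show d (ω a') * z1 ^ pr D n1 (ω a') D.rank * z2 ^ pr D n2 (ω a') D.rank *
      (d a' * z1 ^ pr D n1 a' D.rank * z2 ^ pr D n2 a' D.rank) = k'
    have e : d (ω a') * z1 ^ pr D n1 (ω a') D.rank * z2 ^ pr D n2 (ω a') D.rank *
      (d a' * z1 ^ pr D n1 a' D.rank * z2 ^ pr D n2 a' D.rank) =
      d (ω a') * d a' * z1 ^ (pr D n1 a' D.rank + pr D n1 (ω a') D.rank) *
        z2 ^ (pr D n2 a' D.rank + pr D n2 (ω a') D.rank) := by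
      rw [zpow_add, zpow_add]
      simp only [mul_comm, mul_left_comm, mul_assoc]
    rw [e, h2, h4, zpow_one, zpow_zero, mul_one, hz2, mul_inv_cancel_left]

end Cfsg.Agent.H20.Cos2
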