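import Cfsg.Agent.H20.Cos2.TabE6

/-!
# Generating pairs in the cosets of the inner automorphisms of `E₆(q)` (S4180, helper20)

`lift_E6` : any two automorphisms `x`, `y` of `E₆(q)`, `x` with trivial field part, can be changed by inner
automorphisms so that the group generated by them contains the inner automorphisms.
-/

set_option autoImplicit false

namespace Cfsg.Agent.H20.Cos2

open scoped Pointwise
open Cfsg Cfsg.Lie Cfsg.Agent.ChevalleyStructure Cfsg.Agent.ChevalleyStructure.Elts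
  Cfsg.Agent.ChevalleyStructure.NConj Cfsg.Agent.ChevalleyStructure.BNChev
  Cfsg.Agent.H70.ChevFix Cfsg.Agent.H70.ChevField Cfsg.Agent.H70.OutCount Cfsg.Agent.H70.OutE Cfsg.Agent.H135.TwoG
  Cfsg.Agent.H891.DG Cfsg.Agent.H891.Gen Cfsg.Agent.H891.DG.Nielsen
open Cfsg.Agent.ChevalleyStructure.W0E6 (tabE6 tabE6_ok)
open Cfsg.Agent.H65.Cos (xa)

universe u

/-! ### the automorphisms fixing the fundamental root subgroups -/

/-- an automorphism fixing the root subgroups of the fundamental roots and their negatives is monomial -/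
theorem mono_of_perm_one {D : ChevalleyDatum} {F : Type u} [Field F] [Finite F] (hD : InList D)
    {φ : MulAut ↥(D.group F)} (h : Perm D F φ 1) :
    ∃ (χ : ℕ → Fˣ) (τ : F ≃+* F), Mono hD φ id χ τ := by
  obtain ⟨c, σ, hc, h1, h2, h3⟩ := exists_field hD h
  obtain ⟨τ, hτ⟩ := sigma_eq hD (σ := σ) h3
  obtain ⟨χ, hχ, h4, h5⟩ := Cfsg.Agent.H70.ChevDiag.exists_diagAut (F := F) hD (fun i => Units.mk0 (c i) (hc i))
  obtain ⟨α, hα⟩ := exists_fieldAut hD τ
  have e : φ = Cfsg.Agent.H70.ChevDiag.diagAut hD hχ * α := by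
    apply ext_values hD
    · intro i t
      rw [h1, hτ, MulAut.mul_apply, hα _ (Cfsg.Agent.S1042.simple_lt hD i.2), diagAut_xe, h4]
      rfl
    · intro i t
      rw [h2, hτ, MulAut.mul_apply, hα _ (neg_simple_lt hD i.2), diagAut_xe, h5, Units.val_inv_eq_inv_val]
      rfl
  refine ⟨χ, τ, fun r hr => hr, fun r hr => ⟨r, hr, rfl⟩, fun r hr t => ?_⟩
  rw [e, MulAut.mul_apply, hα r hr, diagAut_xe]
  rfl

theorem isCyclic_ringAut (F : Type*) [Field F] [Finite F] : IsCyclic (F ≃+* F) := by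
  obtain ⟨p, hp⟩ := CharP.exists F
  have hpp : Fact p.Prime := ⟨CharP.char_is_prime F p⟩
  let _ : Algebra (ZMod p) F := ZMod.algebra F p
  let φ : (F ≃ₐ[ZMod p] F) →* (F ≃+* F) :=
    { toFun := fun σ => σ.toRingEquiv
      map_one' := rfl
      map_mul' := fun _ _ => rfl }
  have hφ : Function.Surjective φ := by
    intro σ
    refine ⟨AlgEquiv.ofRingEquiv (f := σ) ?_, ?_⟩
    · intro x
      have : (σ : F →+* F).comp (algebraMap (ZMod p) F) = algebraMap (ZMod p) F := Subsingleton.elim _ _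
      exact RingHom.congr_fun this x
    · ext x
      rfl
  exact isCyclic_of_surjective φ hφ

section E6

variable {F : Type u} [Field F]

/-- the type of the root permutation -/
def om : Bool → ℕ → ℕ
  | false => id
  | true => flipR

theorem om_lt (b : Bool) : ∀ r < chevE6.nroots, om b r < chevE6.nroots := by
  cases b
  · exact fun r hr => hr
  · exact fun r hr => (flipR_ok r hr).1

theorem om_om (b : Bool) : ∀ r < chevE6.nroots, om b (om b r) = r := by
  cases b
  · exact fun r _ => rfl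
  · exact fun r hr => (flipR_ok r hr).2

/-- the graph automorphism -/
theorem exists_graph (F : Type u) [Field F] :
    ∃ (α : MulAut ↥(chevE6.group F)) (d : ℕ → Fˣ), Mono inList_E6 α flipR d (RingEquiv.refl F) ∧
      Perm chevE6 F α Cfsg.Agent.H70.OutE.flip := by
  obtain ⟨α, hα⟩ := S1081.result (F := F) (chevE6, [5, 1, 4, 3, 2, 0]) (by simp)
  have h2 : ∀ i < chevE6.rank, ∀ t : F, α (xe inList_E6 (chevE6.simple i) t) =
      xe inList_E6 (chevE6.simple (fl i)) t := fun i hi t =>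
    Subtype.ext (Units.ext ((hα (xe inList_E6 (chevE6.simple i) t) i t hi).1 rfl))
  have h3 : ∀ i < chevE6.rank, ∀ t : F, α (xe inList_E6 (chevE6.neg (chevE6.simple i)) t) =
      xe inList_E6 (chevE6.neg (chevE6.simple (fl i))) t := fun i hi t =>
    Subtype.ext (Units.ext ((hα (xe inList_E6 (chevE6.neg (chevE6.simple i)) t) i t hi).2 rfl))
  have hw : ∀ r < chevE6.nroots, (∀ j ∈ (words r).1, j < chevE6.rank) ∧ (words r).2 < chevE6.rank ∧
      wact chevE6 (words r).1 (chevE6.simple (words r).2) = r ∧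
      wact chevE6 ((words r).1.map fl) (chevE6.simple (fl (words r).2)) = flipR r := by
    intro r hr
    obtain ⟨h4, h5, h6, h7⟩ := words_ok r hr
    have h4' : ∀ j ∈ (words r).1.map fl, j < chevE6.rank := by
      intro j hj
      rw [List.mem_map] at hj
      obtain ⟨i, hi, rfl⟩ := hj
      exact fl_lt i (h4 i hi)
    refine ⟨h4, h5, ?_, ?_⟩
    · rw [wT_E6 h4 (Cfsg.Agent.S1042.simple_lt inList_E6 h5)]; exact h6
    · rw [wT_E6 h4' (Cfsg.Agent.S1042.simple_lt inList_E6 (fl_lt _ h5))]; exact h7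
  obtain ⟨d, hd⟩ := mono_graph (hD := inList_E6) (α := α) (π := fl) (ω := flipR) fl_lt h2 h3 words hw
    (fun r hr => ⟨flipR r, (flipR_ok r hr).1, (flipR_ok r hr).2⟩)
  refine ⟨α, d, hd, ?_, ?_⟩
  · intro i
    refine smul_XX inList_E6 fun t => ?_
    rw [h2 i i.2, flip_val i]
    rfl
  · intro i
    refine smul_XX inList_E6 fun t => ?_
    rw [h3 i i.2, flip_val i]
    rfl

/-- every automorphism is inner times monomial -/
theorem decomp [Finite F] (θ : MulAut ↥(chevE6.group F)) :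
    ∃ (g : ↥(chevE6.group F)) (b : Bool) (d : ℕ → Fˣ) (σ : F ≃+* F),
      Mono inList_E6 (MulAut.conj g * θ) (om b) d σ := by
  obtain ⟨g, π, -, -, h1, h2⟩ := exists_conj_perm (F := F) inList_E6 θ
  have hP : Perm chevE6 F (MulAut.conj g * θ) π := ⟨h1, h2⟩
  have h3 := Cfsg.Agent.H70.DiagSym.isDiagramSymmetry inList_E6 hP
  have h4 := Cfsg.Agent.H79.DiagSymm.imgs_E6 h3
  simp only [List.mem_cons, List.not_mem_nil, or_false] at h4
  rcases h4 with h4 | h4
  · have h5 : π = 1 := Cfsg.Agent.H79.DiagSymm.eq_of_imgs (h4.trans (by rw [Cfsg.Agent.H79.DiagSymm.imgs_one]; rfl))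
    subst h5
    obtain ⟨χ, τ, h6⟩ := mono_of_perm_one inList_E6 hP
    exact ⟨g, false, χ, τ, h6⟩
  · have h5 : π = Cfsg.Agent.H70.OutE.flip := Cfsg.Agent.H79.DiagSymm.eq_of_imgs (h4.trans imgs_flip.symm)
    subst h5
    obtain ⟨α, d, hα, hαP⟩ := exists_graph F
    have h6 := hP.mul hαP.inv
    rw [mul_inv_cancel] at h6
    obtain ⟨χ, τ, h7⟩ := mono_of_perm_one inList_E6 h6
    have h8 := h7.mul hα
    rw [inv_mul_cancel_right] at h8
    exact ⟨g, true, _, _, h8⟩

/-! ### the pairs -/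

/-- the words of the two types -/
def wd : Bool → List ℕ
  | false => [0, 1, 2, 3, 4, 5]
  | true => [4, 3, 5, 1]

theorem wd_lt (b : Bool) : ∀ i ∈ wd b, i < chevE6.rank := by cases b <;> decide

def Wb : Bool → ℕ → ℕ
  | false => WA
  | true => WB

theorem Wb_eq (b : Bool) : ∀ r < chevE6.nroots, Wb b r = wact chevE6 (wd b) (om b r) := by
  intro r hr
  rw [wT_E6 (wd_lt b) (om_lt b r hr)]
  cases b <;> rfl

/-- the start roots -/
def sa : Bool → ℕ
  | false => 36
  | true => 0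

def sa' : Bool → ℕ
  | false => 37
  | true => 1

def sts : Bool → List (ℕ × ℕ)
  | false => stepsA
  | true => stepsB

theorem sts_run (b : Bool) : run chevE6 (Wb b) (1 <<< sa b) (sts b) = 2 ^ chevE6.nroots - 1 := by
  cases b
  · exact runA
  · exact runB

theorem sa_lt (b : Bool) : sa b < chevE6.nroots := by cases b <;> decide
theorem sa'_lt (b : Bool) : sa' b < chevE6.nroots := by cases b <;> decide

theorem Wb_sa' (b : Bool) : Wb b (sa' b) = sa b := by cases b <;> decide +kernel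

/-- the monomial element `n_w y` -/
theorem exists_W {y : MulAut ↥(chevE6.group F)} {b : Bool} {d : ℕ → Fˣ} {σ : F ≃+* F}
    (hy : Mono inList_E6 y (om b) d σ) :
    ∃ (g : ↥(chevE6.group F)) (d' : ℕ → Fˣ), Mono inList_E6 (MulAut.conj g * y) (Wb b) d' σ := by
  obtain ⟨e, he⟩ := mono_word (F := F) (hD := inList_E6) (wd_lt b)
  have h := he.mul hy
  exact ⟨_, _, h.congr (ω' := Wb b) (fun r hr => Wb_eq b r hr) (fun r _ => rfl)⟩

/-- the form used in `H65.Cos.Gen` -/
theorem Mono.hw {D : ChevalleyDatum} {hD : InList D} {W : MulAut ↥(D.group F)} {ω : ℕ → ℕ} {d : ℕ → Fˣ}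
    {σ : F ≃+* F} (h : Mono hD W ω d σ) :
    ∀ r < D.nroots, ∃ c : F, c ≠ 0 ∧ ∀ t : F, W (xe hD r t) = xe hD (ω r) (c * σ t) :=
  fun r hr => ⟨(d r : F), (d r).ne_zero, h.eq r hr⟩

/-- the general step: `h`, a diagonal automorphism in `M`, and `x_a(1) W ∈ M` -/
theorem range_le [Finite F] {k : Fˣ} (hk : ∀ x : Fˣ, x ∈ Subgroup.zpowers k) (hk1 : k ≠ 1) {b : Bool}
    {M : Subgroup (MulAut ↥(chevE6.group F))} {h W : MulAut ↥(chevE6.group F)} {χ d : ℕ → Fˣ} {σ : F ≃+* F}
    (hh : Mono inList_E6 h id χ (RingEquiv.refl F)) (hW : Mono inList_E6 W (Wb b) d σ)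
    (h1 : χ (sa b) = k) (h2 : χ (sa' b) = k) (hM : h ∈ M) (hWM : xa inList_E6 (sa b) 1 * W ∈ M) :
    (MulAut.conj : ↥(chevE6.group F) →* MulAut ↥(chevE6.group F)).range ≤ M := by
  obtain ⟨h3, h4⟩ := Cfsg.Agent.H65.Cos.core inList_E6 (conj_injective inList_E6) hk hk1 hW.surj (τ := fun _ => σ)
    hh.eq hW.hw (sa_lt b) (sa'_lt b) (Wb_sa' b) h1 (by rw [h2]; exact hk1) hM hWM
  exact Cfsg.Agent.H65.Cos.range_le_of_one (τ := fun _ => σ) hW.hw h4 h3 (sts_run b)

/-- a pair with a diagonal first component, at least three elements -/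
theorem lift_diag [Finite F] {k : Fˣ} (hk : ∀ x : Fˣ, x ∈ Subgroup.zpowers k) (hk1 : k ≠ 1)
    {x y : MulAut ↥(chevE6.group F)} {χ d : ℕ → Fˣ} {σ : F ≃+* F} {b : Bool}
    (hx : Mono inList_E6 x id χ (RingEquiv.refl F)) (hy : Mono inList_E6 y (om b) d σ) :
    Lift (MulAut.conj : ↥(chevE6.group F) →* MulAut ↥(chevE6.group F)).range x y := by
  obtain ⟨g, d', hW⟩ := exists_W hy
  have hadj : ∃ (g : ↥(chevE6.group F)) (χ' : ℕ → Fˣ), Mono inList_E6 (x * MulAut.conj g) id χ' (RingEquiv.refl F) ∧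
      χ' (sa b) = k ∧ χ' (sa' b) = k := by
    cases b
    · exact adjust hx prA.1 prA.2.1 prA.2.2.1 prA.2.2.2 k k
    · exact adjust hx prB.1 prB.2.1 prB.2.2.1 prB.2.2.2 k k
  obtain ⟨g', χ', h1, h2, h3⟩ := hadj
  have hN := inn_normal ↥(chevE6.group F)
  have e : xa inList_E6 (sa b) 1 * (MulAut.conj g * y) =
      y * (y⁻¹ * (xa inList_E6 (sa b) 1 * MulAut.conj g) * y) := by group
  refine ⟨MulAut.conj g', ⟨g', rfl⟩, y⁻¹ * (xa inList_E6 (sa b) 1 * MulAut.conj g) * y, ?_, ?_⟩
  · have h4 := hN.conj_mem (xa inList_E6 (sa b) (1 : F) * MulAut.conj g) ⟨xe inList_E6 (sa b) 1 * g, by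
      rw [map_mul]; rfl⟩ y⁻¹
    rwa [inv_inv] at h4
  · rw [← e]
    exact range_le hk hk1 h1 hW h2 h3 (Subgroup.subset_closure (by simp)) (Subgroup.subset_closure (by simp))

/-- a pair with a first component of graph type and a second one not of graph type, at least three elements -/
theorem lift_flip [Finite F] {k : Fˣ} (hk : ∀ x : Fˣ, x ∈ Subgroup.zpowers k) (hk1 : k ≠ 1)
    {x y : MulAut ↥(chevE6.group F)} {χ d : ℕ → Fˣ} {σ : F ≃+* F}
    (hx : Mono inList_E6 x (om true) χ (RingEquiv.refl F)) (hy : Mono inList_E6 y (om false) d σ) :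
    Lift (MulAut.conj : ↥(chevE6.group F) →* MulAut ↥(chevE6.group F)).range x y := by
  obtain ⟨g, d', hW⟩ := exists_W hy
  obtain ⟨g', χ', h1, h2, h3⟩ := adjust_sq hx (om_om true) (n1 := nv [-1, -1, -1, -1, 0, 1])
    (n2 := nv [0, -1, 1, 1, 1, 1]) (a := sa false) (a' := sa' false) prAsq.1 prAsq.2.1 prAsq.2.2.1 prAsq.2.2.2 k k
  have hN := inn_normal ↥(chevE6.group F)
  have e : xa inList_E6 (sa false) 1 * (MulAut.conj g * y) =
      y * (y⁻¹ * (xa inList_E6 (sa false) 1 * MulAut.conj g) * y) := by group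
  refine ⟨MulAut.conj g', ⟨g', rfl⟩, y⁻¹ * (xa inList_E6 (sa false) 1 * MulAut.conj g) * y, ?_, ?_⟩
  · have h4 := hN.conj_mem (xa inList_E6 (sa false) (1 : F) * MulAut.conj g) ⟨xe inList_E6 (sa false) 1 * g, by
      rw [map_mul]; rfl⟩ y⁻¹
    rwa [inv_inv] at h4
  · rw [← e]
    have h5 : x * MulAut.conj g' ∈ Subgroup.closure ({x * MulAut.conj g',
        xa inList_E6 (sa false) 1 * (MulAut.conj g * y)} : Set (MulAut ↥(chevE6.group F))) :=
      Subgroup.subset_closure (by simp)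
    exact range_le hk hk1 h1 hW h2 h3 (mul_mem h5 h5) (Subgroup.subset_closure (by simp))

/-- a pair with an inner first component, two elements -/
theorem lift_inner (hF : ∀ t : F, t = 0 ∨ t = 1)
    {x y : MulAut ↥(chevE6.group F)} {d : ℕ → Fˣ} {σ : F ≃+* F} {b : Bool}
    (hx : x ∈ (MulAut.conj : ↥(chevE6.group F) →* MulAut ↥(chevE6.group F)).range)
    (hy : Mono inList_E6 y (om b) d σ) :
    Lift (MulAut.conj : ↥(chevE6.group F) →* MulAut ↥(chevE6.group F)).range x y := by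
  obtain ⟨g, d', hW⟩ := exists_W hy
  have hN := inn_normal ↥(chevE6.group F)
  refine ⟨x⁻¹ * xa inList_E6 (sa b) 1, mul_mem (inv_mem hx) ⟨_, rfl⟩, y⁻¹ * MulAut.conj g * y, ?_, ?_⟩
  · have h4 := hN.conj_mem (MulAut.conj g) ⟨g, rfl⟩ y⁻¹
    rwa [inv_inv] at h4
  · have e1 : x * (x⁻¹ * xa inList_E6 (sa b) 1) = xa inList_E6 (sa b) 1 := by group
    have e2 : y * (y⁻¹ * MulAut.conj g * y) = MulAut.conj g * y := by group
    rw [e1, e2]
    refine Cfsg.Agent.H65.Cos.range_le_of_one (τ := fun _ => σ) hW.hw (Subgroup.subset_closure (by simp))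
      (a := sa b) (fun t => ?_) (sts_run b)
    rcases hF t with rfl | rfl
    · rw [Cfsg.Agent.H65.Cos.xa_zero]; exact one_mem _
    · exact Subgroup.subset_closure (by simp)

/-! ### automorphisms with trivial field part -/

theorem om_comp (b b' : Bool) : ∀ r < chevE6.nroots, om (xor b b') r = om b (om b' r) := by
  intro r hr
  cases b <;> cases b'
  · rfl
  · rfl
  · rfl
  · exact ((flipR_ok r hr).2).symm

theorem Mono.inv_om {W : MulAut ↥(chevE6.group F)} {b : Bool} {d : ℕ → Fˣ} {σ : F ≃+* F}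
    (h : Mono inList_E6 W (om b) d σ) :
    ∃ d' : ℕ → Fˣ, Mono inList_E6 W⁻¹ (om b) d' σ.symm := by
  refine ⟨fun r => Units.map (σ.symm : F →* F) ((d (om b r))⁻¹), h.lt, h.surj, fun r hr t => ?_⟩
  have h1 := h.inv_apply (om_lt b r hr) t
  rw [om_om b r hr] at h1
  rw [h1]
  congr 1
  rw [map_mul, Units.coe_map, Units.val_inv_eq_inv_val]
  rfl

/-- the automorphisms with trivial field part -/
def KE (F : Type u) [Field F] : Subgroup (MulAut ↥(chevE6.group F)) where
  carrier := {θ | ∃ (g : ↥(chevE6.group F)) (b : Bool) (d : ℕ → Fˣ),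
    Mono inList_E6 (MulAut.conj g * θ) (om b) d (RingEquiv.refl F)}
  mul_mem' := by
    rintro θ θ' ⟨g, b, d, h⟩ ⟨g', b', d', h'⟩
    have h1 := h.mul h'
    have e : MulAut.conj g * θ * (MulAut.conj g' * θ') = MulAut.conj (g * θ g') * (θ * θ') := by
      rw [map_mul, ← conj_conj]; group
    rw [e] at h1
    exact ⟨g * θ g', xor b b', _, (h1.congr (ω' := om (xor b b')) (fun r hr => om_comp b b' r hr) fun r _ => rfl)⟩
  one_mem' := ⟨1, false, _, by rw [map_one, one_mul]; exact Mono.one⟩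
  inv_mem' := by
    rintro θ ⟨g, b, d, h⟩
    obtain ⟨d', h1⟩ := h.inv_om
    have e : (MulAut.conj g * θ)⁻¹ = MulAut.conj (θ⁻¹ g⁻¹) * θ⁻¹ := by
      rw [← conj_conj, map_inv]; group
    rw [e] at h1
    exact ⟨_, b, d', h1⟩

theorem inn_le_KE : (MulAut.conj : ↥(chevE6.group F) →* MulAut ↥(chevE6.group F)).range ≤ KE F := by
  rintro _ ⟨g, rfl⟩
  refine ⟨g⁻¹, false, fun _ => 1, ?_⟩
  rw [← map_mul, inv_mul_cancel, map_one]
  exact Mono.one

theorem mono_mem_KE {W : MulAut ↥(chevE6.group F)} {b : Bool} {d : ℕ → Fˣ}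
    (h : Mono inList_E6 W (om b) d (RingEquiv.refl F)) : W ∈ KE F :=
  ⟨1, b, d, by rwa [map_one, one_mul]⟩

theorem normal_KE [Finite F] : (KE F).Normal := by
  constructor
  rintro θ ⟨g, b, d, h⟩ ψ
  obtain ⟨g', b', d', σ', h'⟩ := decomp ψ
  obtain ⟨d'', h''⟩ := h'.inv_om
  have h1 := (h'.mul h).mul h''
  have eσ : σ'.symm.trans ((RingEquiv.refl F).trans σ') = RingEquiv.refl F := by
    ext t; exact σ'.apply_symm_apply t
  rw [eσ] at h1
  have eb : ∀ r < chevE6.nroots, om b r = om b' (om b (om b' r)) := by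
    intro r hr
    rw [← om_comp b b' r hr, ← om_comp b' (xor b b') r hr]
    congr 1
    cases b <;> cases b' <;> rfl
  have h2 := mono_mem_KE (h1.congr (ω' := om b) eb fun r _ => rfl)
  have hc : ∀ x : ↥(chevE6.group F), MulAut.conj x ∈ KE F := fun x => inn_le_KE ⟨x, rfl⟩
  have e : ψ * θ * ψ⁻¹ = (MulAut.conj (g' * ψ g))⁻¹ *
      ((MulAut.conj g' * ψ) * (MulAut.conj g * θ) * (MulAut.conj g' * ψ)⁻¹) * MulAut.conj g' := by
    rw [map_mul, ← conj_conj]; group
  rw [e]
  exact mul_mem (mul_mem (inv_mem (hc _)) h2) (hc _)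

/-- the quotient by the automorphisms with trivial field part is cyclic -/
theorem cyclic_quot [Finite F] [(KE F).Normal] : IsCyclic (MulAut ↥(chevE6.group F) ⧸ KE F) := by
  have hcyc : IsCyclic (F ≃+* F) := isCyclic_ringAut F
  choose α hα using exists_fieldAut (F := F) inList_E6
  have hm : ∀ τ, Mono inList_E6 (α τ) (om false) (fun _ => 1) τ := fun τ =>
    ⟨fun r hr => hr, fun r hr => ⟨r, hr, rfl⟩, fun r hr t => by rw [hα τ r hr, Units.val_one, one_mul]; rfl⟩
  have hmul : ∀ τ τ', α (τ * τ') = α τ * α τ' := by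
    intro τ τ'
    apply ext_values inList_E6
    · intro i t
      have hi := Cfsg.Agent.S1042.simple_lt inList_E6 i.2
      rw [hα _ _ hi, MulAut.mul_apply, hα _ _ hi, hα _ _ hi]
      rfl
    · intro i t
      have hi := neg_simple_lt inList_E6 i.2
      rw [hα _ _ hi, MulAut.mul_apply, hα _ _ hi, hα _ _ hi]
      rfl
  let f : (F ≃+* F) →* MulAut ↥(chevE6.group F) ⧸ KE F :=
    MonoidHom.mk' (fun τ => QuotientGroup.mk' (KE F) (α τ)) (fun τ τ' => by rw [hmul, map_mul])
  refine isCyclic_of_surjective f ?_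
  intro x
  obtain ⟨θ, rfl⟩ := QuotientGroup.mk'_surjective (KE F) x
  obtain ⟨g, b, d, σ, h⟩ := decomp θ
  refine ⟨σ, ?_⟩
  show QuotientGroup.mk' (KE F) (α σ) = QuotientGroup.mk' (KE F) θ
  obtain ⟨e, he⟩ := (hm σ).inv_om
  have h1 := h.mul he
  have eσ : σ.symm.trans σ = RingEquiv.refl F := by
    ext t; exact σ.apply_symm_apply t
  rw [eσ] at h1
  have h2 : MulAut.conj g * θ * (α σ)⁻¹ ∈ KE F := mono_mem_KE (h1.congr (ω' := om b) (fun r _ => rfl) fun r _ => rfl)
  have h3 : θ * (α σ)⁻¹ ∈ KE F := by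
    have h4 := mul_mem (inv_mem (inn_le_KE (F := F) ⟨g, rfl⟩)) h2
    have e : (MulAut.conj g)⁻¹ * (MulAut.conj g * θ * (α σ)⁻¹) = θ * (α σ)⁻¹ := by group
    rwa [e] at h4
  have h5 : QuotientGroup.mk' (KE F) (θ * (α σ)⁻¹) = 1 := by
    rw [← MonoidHom.mem_ker, QuotientGroup.ker_mk']
    exact h3
  rw [map_mul, map_inv, mul_inv_eq_one] at h5
  exact h5.symm

/-! ### the result -/

/-- a pair whose first component has trivial field part -/
theorem lift_mono [Finite F] {x y : MulAut ↥(chevE6.group F)} {χ d : ℕ → Fˣ} {σ : F ≃+* F} {b b' : Bool}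
    (hx : Mono inList_E6 x (om b) χ (RingEquiv.refl F)) (hy : Mono inList_E6 y (om b') d σ) :
    Lift (MulAut.conj : ↥(chevE6.group F) →* MulAut ↥(chevE6.group F)).range x y := by
  have hN := inn_normal ↥(chevE6.group F)
  by_cases hq : ∃ t : F, t ≠ 0 ∧ t ≠ 1
  · obtain ⟨k, hk⟩ := IsCyclic.exists_generator (α := Fˣ)
    have hk1 : k ≠ 1 := by
      rintro rfl
      obtain ⟨t, h0, h1⟩ := hq
      have h2 := hk (Units.mk0 t h0)
      rw [Subgroup.zpowers_one_eq_bot, Subgroup.mem_bot] at h2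
      exact h1 (congrArg Units.val h2)
    cases b
    · exact lift_diag hk hk1 hx hy
    · cases b'
      · exact lift_flip hk hk1 hx hy
      · have h9 := (hx.mul hy).congr (ω' := om false) (fun r hr => (om_om true r hr).symm) fun r _ => rfl
        exact Lift.of_mul_left hN (lift_flip hk hk1 hx h9)
  · -- the field with two elements
    have hF : ∀ t : F, t = 0 ∨ t = 1 := by
      intro t
      by_contra h
      exact hq ⟨t, fun h0 => h (Or.inl h0), fun h1 => h (Or.inr h1)⟩
    have hone : ∀ {z : MulAut ↥(chevE6.group F)} {e : ℕ → Fˣ} {τ : F ≃+* F}, Mono inList_E6 z (om false) e τ →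
        z ∈ (MulAut.conj : ↥(chevE6.group F) →* MulAut ↥(chevE6.group F)).range := by
      intro z e τ hz
      have hu : ∀ u : Fˣ, (u : F) = 1 := fun u => (hF u).resolve_left u.ne_zero
      have hτ : ∀ t : F, τ t = t := by
        intro t
        rcases hF t with rfl | rfl
        · exact map_zero _
        · exact map_one _
      have h1 : z = 1 := by
        apply ext_values inList_E6
        · intro i t
          rw [hz.eq _ (Cfsg.Agent.S1042.simple_lt inList_E6 i.2), hu, hτ, one_mul]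
          rfl
        · intro i t
          rw [hz.eq _ (neg_simple_lt inList_E6 i.2), hu, hτ, one_mul]
          rfl
      rw [h1]
      exact one_mem _
    cases b
    · exact lift_inner hF (hone hx) hy
    · cases b'
      · exact (lift_inner hF (hone hy) hx).symm
      · have h9 := (hx.mul hy).congr (ω' := om false) (fun r hr => (om_om true r hr).symm) fun r _ => rfl
        exact Lift.of_mul_left hN (lift_inner hF (hone h9) hx).symm

theorem cos2_group [Finite F] : Cos2 ↥(chevE6.group F) := by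
  have := normal_KE (F := F)
  have := cyclic_quot (F := F)
  have hfin : Finite (MulAut ↥(chevE6.group F)) :=
    Finite.of_injective (fun f : MulAut ↥(chevE6.group F) => (f : ↥(chevE6.group F) → ↥(chevE6.group F)))
      DFunLike.coe_injective
  refine cos2_of_ker (QuotientGroup.mk' (KE F)) ?_
  intro x y hx
  rw [← MonoidHom.mem_ker, QuotientGroup.ker_mk'] at hx
  obtain ⟨g, b, d, h⟩ := hx
  obtain ⟨g', b', d', σ', h'⟩ := decomp y
  have hN := inn_normal ↥(chevE6.group F)
  refine Lift.congr (x := MulAut.conj g * x) (y := MulAut.conj g' * y) ?_ ?_ (lift_mono h h')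
  · have h1 := hN.conj_mem (MulAut.conj g) ⟨g, rfl⟩ x⁻¹
    rw [inv_inv] at h1
    rwa [← mul_assoc]
  · have h1 := hN.conj_mem (MulAut.conj g') ⟨g', rfl⟩ y⁻¹
    rw [inv_inv] at h1
    rwa [← mul_assoc]

end E6

/-- `Cos2` is invariant under isomorphisms. -/
theorem cos2_of_equiv {T : Type*} {M : Type*} [Group T] [Group M] (e : T ≃* M) (h : Cos2 M) : Cos2 T := by
  intro x y
  obtain ⟨s, ⟨s', hs⟩, t, ⟨t', ht⟩, hst⟩ := h (MulAut.congr e x) (MulAut.congr e y)
  set f : MulAut M ≃* MulAut T := (MulAut.congr e).symm with hf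
  have hconj : ∀ m : M, f (MulAut.conj m) = MulAut.conj (e.symm m) := by
    intro m
    rw [hf, MulEquiv.symm_apply_eq]
    refine MulEquiv.ext fun z => ?_
    change _ = e (MulAut.conj (e.symm m) (e.symm z))
    rw [MulAut.conj_apply, MulAut.conj_apply, map_mul, map_mul, map_inv, e.apply_symm_apply, e.apply_symm_apply]
  have hx : f (MulAut.congr e x) = x := by rw [hf, MulEquiv.symm_apply_apply]
  have hy : f (MulAut.congr e y) = y := by rw [hf, MulEquiv.symm_apply_apply]
  refine ⟨f s, ⟨e.symm s', by rw [← hs, hconj]⟩, f t, ⟨e.symm t', by rw [← ht, hconj]⟩, ?_⟩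
  have h1 := Subgroup.map_mono (f := (f : MulAut M →* MulAut T)) hst
  rw [MonoidHom.map_closure, Set.image_pair] at h1
  have h2 : (f : MulAut M →* MulAut T) (MulAut.congr e x * s) = x * f s := by
    change f (MulAut.congr e x * s) = _
    rw [map_mul, hx]
  have h3 : (f : MulAut M →* MulAut T) (MulAut.congr e y * t) = y * f t := by
    change f (MulAut.congr e y * t) = _
    rw [map_mul, hy]
  rw [h2, h3] at h1
  refine le_trans ?_ h1
  rintro _ ⟨a, rfl⟩
  exact ⟨MulAut.conj (e a), ⟨e a, rfl⟩, by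
    change f (MulAut.conj (e a)) = _
    rw [hconj, e.symm_apply_apply]⟩

/-- **`Cos2` for `E₆(q)`** (the field `e6` of `Rows Cos2`). -/
theorem cos2_e6 (T : Type*) [Group T] [Finite T] [IsSimpleGroup T] (h : Cfsg.Lie.IsoChevE6 T) : Cos2 T := by
  obtain ⟨F, _, _, ⟨e⟩⟩ := h
  exact cos2_of_equiv e cos2_group

end Cfsg.Agent.H20.Cos2
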