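import Cfsg.Agent.H20.Cos2.Core

/-!
# Graph automorphisms on all the root subgroups (S4180, helper20)

`mono_graph`: an automorphism permuting the `x_{±p}(t)`, `p` fundamental, as a symmetry `π` of the diagram, is monomial
on all the root subgroups; the permutation of the roots is given by tables.
-/

set_option autoImplicit false

namespace Cfsg.Agent.H20.Cos2

open Cfsg.Lie Cfsg.Agent.ChevalleyStructure Cfsg.Agent.ChevalleyStructure.Elts
  Cfsg.Agent.ChevalleyStructure.NConj Cfsg.Agent.ChevalleyStructure.BNChev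
  Cfsg.Agent.H70.ChevFix Cfsg.Agent.H70.ChevField Cfsg.Agent.H70.OutCount Cfsg.Agent.H135.TwoG

universe u

variable {D : ChevalleyDatum} {F : Type u} [Field F]

/-- `n_{p_i}` as an element of the group -/
noncomputable def nE (hD : InList D) (F : Type u) [Field F] (i : ℕ) : ↥(D.group F) :=
  xe hD (D.simple i) 1 * (xe hD (D.neg (D.simple i)) (-1) * xe hD (D.simple i) 1)

theorem coe_nE (hD : InList D) (i : ℕ) : ((nE hD F i : ↥(D.group F)) : GL D.Idx F) = nG hD (D.simple i) 1 := by
  rw [nG_def, inv_one]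
  rfl

/-- a word in the `n_{p_i}` -/
noncomputable def wE (hD : InList D) (F : Type u) [Field F] (l : List ℕ) : ↥(D.group F) := (l.map (nE hD F)).prod

theorem coe_wE (hD : InList D) (l : List ℕ) : ((wE hD F l : ↥(D.group F)) : GL D.Idx F) = wG hD F l := by
  induction l with
  | nil => rfl
  | cons i l ih =>
    have e : wE hD F (i :: l) = nE hD F i * wE hD F l := by simp [wE]
    have e' : wG hD F (i :: l) = nG hD (D.simple i) 1 * wG hD F l := by simp [wG]
    rw [e, e', Subgroup.coe_mul, ih, coe_nE]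

theorem wE_conj (hD : InList D) {l : List ℕ} (hl : ∀ i ∈ l, i < D.rank) {s : ℕ} (hs : s < D.nroots) :
    ∃ η : Fˣ, ∀ t : F, wE hD F l * xe hD s t * (wE hD F l)⁻¹ = xe hD (wact D l s) ((η : F) * t) := by
  obtain ⟨η, hη, h⟩ := wG_conj (F := F) hD hl hs
  have h' : ∀ t : F, wE hD F l * xe hD s t * (wE hD F l)⁻¹ = xe hD (wact D l s) (η * t) := by
    intro t
    apply Subtype.ext
    rw [Subgroup.coe_mul, Subgroup.coe_mul, Subgroup.coe_inv, coe_wE]
    exact h t
  rcases hη with rfl | rfl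
  · exact ⟨1, fun t => by rw [h', Units.val_one]⟩
  · exact ⟨-1, fun t => by rw [h', Units.val_neg, Units.val_one]⟩

theorem map_wE {hD : InList D} {α : MulAut ↥(D.group F)} {π : ℕ → ℕ}
    (h2 : ∀ i < D.rank, ∀ t : F, α (xe hD (D.simple i) t) = xe hD (D.simple (π i)) t)
    (h3 : ∀ i < D.rank, ∀ t : F, α (xe hD (D.neg (D.simple i)) t) = xe hD (D.neg (D.simple (π i))) t)
    {l : List ℕ} (hl : ∀ i ∈ l, i < D.rank) : α (wE hD F l) = wE hD F (l.map π) := by
  induction l with
  | nil => simp [wE]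
  | cons i l ih =>
    have e : wE hD F (i :: l) = nE hD F i * wE hD F l := by simp [wE]
    have e' : wE hD F ((i :: l).map π) = nE hD F (π i) * wE hD F (l.map π) := by simp [wE]
    have hi := hl i List.mem_cons_self
    rw [e, e', map_mul, ih fun j hj => hl j (List.mem_cons_of_mem _ hj)]
    congr 1
    rw [nE, nE, map_mul, map_mul, h2 i hi, h3 i hi]

/-- **the graph automorphisms are monomial on all the root subgroups** -/
theorem mono_graph {hD : InList D} {α : MulAut ↥(D.group F)} {π ω : ℕ → ℕ}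
    (h1 : ∀ i < D.rank, π i < D.rank)
    (h2 : ∀ i < D.rank, ∀ t : F, α (xe hD (D.simple i) t) = xe hD (D.simple (π i)) t)
    (h3 : ∀ i < D.rank, ∀ t : F, α (xe hD (D.neg (D.simple i)) t) = xe hD (D.neg (D.simple (π i))) t)
    (words : ℕ → List ℕ × ℕ)
    (hw : ∀ r < D.nroots, (∀ j ∈ (words r).1, j < D.rank) ∧ (words r).2 < D.rank ∧
      wact D (words r).1 (D.simple (words r).2) = r ∧
      wact D ((words r).1.map π) (D.simple (π (words r).2)) = ω r)
    (hsurj : ∀ r < D.nroots, ∃ s < D.nroots, ω s = r) :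
    ∃ d : ℕ → Fˣ, Mono hD α ω d (RingEquiv.refl F) := by
  classical
  have hsl : ∀ i < D.rank, D.simple i < D.nroots := fun i hi => Cfsg.Agent.S1042.simple_lt hD hi
  have key : ∀ r : ℕ, ∃ c : Fˣ, r < D.nroots → ω r < D.nroots ∧ ∀ t : F, α (xe hD r t) = xe hD (ω r) ((c : F) * t) := by
    intro r
    by_cases hr : r < D.nroots
    · obtain ⟨ha, hb, hc, hd⟩ := hw r hr
      have ha' : ∀ j ∈ (words r).1.map π, j < D.rank := by
        intro j hj
        rw [List.mem_map] at hj
        obtain ⟨i, hi, rfl⟩ := hj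
        exact h1 i (ha i hi)
      have hb' := h1 _ hb
      obtain ⟨η, hη⟩ := wE_conj (F := F) hD ha (hsl _ hb)
      obtain ⟨ζ, hζ⟩ := wE_conj (F := F) hD ha' (hsl _ hb')
      rw [hc] at hη
      rw [hd] at hζ
      refine ⟨ζ * η⁻¹, fun _ => ⟨?_, fun t => ?_⟩⟩
      · rw [← hd]; exact wact_lt hD ha' (hsl _ hb')
      · have e1 := hη ((η⁻¹ : Fˣ) * t)
        rw [← mul_assoc, ← Units.val_mul, mul_inv_cancel, Units.val_one, one_mul] at e1
        rw [← e1, map_mul, map_mul, map_inv, map_wE h2 h3 ha, h2 _ hb, hζ, Units.val_mul, mul_assoc]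
    · exact ⟨1, fun h => absurd h hr⟩
  choose d hd using key
  exact ⟨d, ⟨fun r hr => (hd r hr).1, hsurj, fun r hr t => (hd r hr).2 t⟩⟩

end Cfsg.Agent.H20.Cos2
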