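import Cfsg.Agent.H20.Cos2.Graph
import Cfsg.Agent.H65.Cos.Gen
import Cfsg.Agent.H70.OutE
import Cfsg.Agent.H891.DG.Nielsen
import Cfsg.Agent.ChevalleyStructure.W0E6

/-!
# Generating pairs in the cosets of the inner automorphisms of `E₆(q)` (S4180, helper20)
-/

set_option autoImplicit false

namespace Cfsg.Agent.H20.Cos2

open scoped Pointwise
open Cfsg Cfsg.Lie Cfsg.Agent.ChevalleyStructure Cfsg.Agent.ChevalleyStructure.Elts
  Cfsg.Agent.ChevalleyStructure.NConj Cfsg.Agent.ChevalleyStructure.BNChev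
  Cfsg.Agent.H70.ChevFix Cfsg.Agent.H70.ChevField Cfsg.Agent.H70.OutCount Cfsg.Agent.H70.OutE Cfsg.Agent.H135.TwoG
open Cfsg.Agent.ChevalleyStructure.W0E6 (tabE6 tabE6_ok)

universe u

/-! ### tables -/

/-- the graph automorphism on the roots -/
def flipTab : List ℕ :=
    [0, 1, 2, 5, 16, 3, 6, 17, 8, 19, 22, 11, 26, 30, 33, 35, 4, 7, 18, 9, 20, 23, 10, 21, 24, 25, 12, 27, 31, 34,
    13, 28, 32, 14, 29, 15, 56, 42, 57, 39, 43, 58, 37, 40, 44, 59, 46, 47, 50, 61, 48, 51, 62, 53, 64, 67, 36, 38,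
    41, 45, 60, 49, 52, 63, 54, 65, 68, 55, 66, 69, 70, 71]

def flipR (r : ℕ) : ℕ := flipTab.getD r 0

/-- the symmetry of the diagram -/
def fl (i : ℕ) : ℕ := [5, 1, 4, 3, 2, 0].getD i 0

/-- words for the roots -/
def wordTab : List (List ℕ × ℕ) :=
    [([1, 3, 4, 5, 2, 3, 4, 1, 3, 2, 0], 0), ([3, 4, 5, 2, 3, 4, 1, 3, 2, 0], 0), ([4, 5, 2, 3, 4, 1, 3, 2, 0], 0),
    ([5, 2, 3, 4, 1, 3, 2, 0], 0), ([2, 3, 4, 1, 3, 2, 0], 0), ([4, 5, 3, 4, 1, 3, 2, 0], 0), ([5, 3, 4, 1, 3, 2,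
    0], 0), ([3, 4, 1, 3, 2, 0], 0), ([5, 4, 1, 3, 2, 0], 0), ([4, 1, 3, 2, 0], 0), ([1, 3, 2, 0], 0), ([5, 4, 3, 2,
    0], 0), ([4, 3, 2, 0], 0), ([3, 2, 0], 0), ([2, 0], 0), ([0], 0), ([4, 5, 3, 4, 2, 3, 1], 1), ([5, 3, 4, 2, 3,
    1], 1), ([3, 4, 2, 3, 1], 1), ([5, 4, 2, 3, 1], 1), ([4, 2, 3, 1], 1), ([2, 3, 1], 1), ([5, 4, 3, 1], 1), ([4,
    3, 1], 1), ([3, 1], 1), ([1], 1), ([5, 4, 3, 2], 2), ([4, 3, 2], 2), ([3, 2], 2), ([2], 2), ([5, 4, 3], 3), ([4,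
    3], 3), ([3], 3), ([5, 4], 4), ([4], 4), ([5], 5), ([], 5), ([], 4), ([5], 4), ([], 3), ([4], 3), ([5, 4], 3),
    ([], 2), ([3], 2), ([4, 3], 2), ([5, 4, 3], 2), ([], 1), ([3], 1), ([4, 3], 1), ([5, 4, 3], 1), ([2, 3], 1),
    ([4, 2, 3], 1), ([5, 4, 2, 3], 1), ([3, 4, 2, 3], 1), ([5, 3, 4, 2, 3], 1), ([4, 5, 3, 4, 2, 3], 1), ([], 0),
    ([2], 0), ([3, 2], 0), ([4, 3, 2], 0), ([5, 4, 3, 2], 0), ([1, 3, 2], 0), ([4, 1, 3, 2], 0), ([5, 4, 1, 3, 2],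
    0), ([3, 4, 1, 3, 2], 0), ([5, 3, 4, 1, 3, 2], 0), ([4, 5, 3, 4, 1, 3, 2], 0), ([2, 3, 4, 1, 3, 2], 0), ([5, 2,
    3, 4, 1, 3, 2], 0), ([4, 5, 2, 3, 4, 1, 3, 2], 0), ([3, 4, 5, 2, 3, 4, 1, 3, 2], 0), ([1, 3, 4, 5, 2, 3, 4, 1,
    3, 2], 0)]

def words (r : ℕ) : List ℕ × ℕ := wordTab.getD r ([], 0)

/-- closure steps, the rotation is `s_0 s_1 s_2 s_3 s_4 s_5` -/
def stepsA : List (ℕ × ℕ) :=
    [(36, 36), (8, 8), (28, 28), (23, 23), (11, 11), (56, 56), (42, 42), (47, 47), (59, 59), (52, 52), (39, 39), (8,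
    28), (3, 3), (18, 18), (5, 5), (26, 26), (57, 57), (50, 50), (64, 64), (69, 69), (54, 54), (40, 40), (38, 38),
    (3, 23), (0, 0), (1, 1), (16, 16), (30, 30), (61, 61), (67, 67), (71, 71), (70, 70), (55, 55), (41, 41), (10,
    10), (0, 47), (2, 2), (17, 17), (31, 31), (33, 33), (62, 62), (68, 68), (53, 53), (66, 66), (45, 45), (14, 14),
    (21, 21), (0, 64), (19, 19), (32, 32), (34, 34), (35, 35), (63, 63), (43, 43), (48, 48), (60, 60), (15, 15),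
    (29, 29), (24, 24), (0, 67), (22, 22), (46, 46), (58, 58), (51, 51), (65, 65), (44, 44), (49, 49), (25, 25),
    (13, 13), (20, 20), (6, 6)]

/-- closure steps, the rotation is `s_4 s_3 s_5 s_1` times the graph automorphism -/
def stepsB : List (ℕ × ℕ) :=
    [(0, 0), (3, 3), (6, 6), (10, 10), (37, 37), (44, 44), (55, 55), (69, 69), (70, 70), (71, 71), (68, 68), (65,
    65), (61, 61), (34, 34), (27, 27), (16, 16), (2, 2), (0, 65), (20, 20), (26, 26), (5, 5), (4, 4), (17, 17), (8,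
    8), (13, 13), (24, 24), (40, 40), (51, 51), (45, 45), (66, 66), (67, 67), (54, 54), (63, 63), (58, 58), (47,
    47), (0, 54), (9, 9), (28, 28), (22, 22), (14, 14), (32, 32), (25, 25), (48, 48), (42, 42), (41, 41), (62, 62),
    (43, 43), (49, 49), (57, 57), (39, 39), (46, 46), (23, 23), (29, 29), (0, 63), (18, 18), (19, 19), (11, 11), (7,
    7), (21, 21), (35, 35), (15, 15), (38, 38), (59, 59), (53, 53), (52, 52), (60, 60), (64, 64), (50, 50), (36,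
    36), (56, 56), (33, 33)]

theorem wT_E6 {l : List ℕ} (hl : ∀ i ∈ l, i < chevE6.rank) {s : ℕ} (hs : s < chevE6.nroots) :
    wact chevE6 l s = wT tabE6 l s := (wT_eq (by simp) tabE6_ok hl s hs).symm

theorem flipR_ok : ∀ r < chevE6.nroots, flipR r < chevE6.nroots ∧ flipR (flipR r) = r := by decide +kernel

theorem words_ok : ∀ r < chevE6.nroots, (∀ j ∈ (words r).1, j < chevE6.rank) ∧ (words r).2 < chevE6.rank ∧
    wT tabE6 (words r).1 (chevE6.simple (words r).2) = r ∧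
    wT tabE6 ((words r).1.map fl) (chevE6.simple (fl (words r).2)) = flipR r := by decide +kernel

theorem fl_lt : ∀ i < chevE6.rank, fl i < chevE6.rank := by decide

/-- the rotations -/
def WA (s : ℕ) : ℕ := wT tabE6 [0, 1, 2, 3, 4, 5] s
def WB (s : ℕ) : ℕ := wT tabE6 [4, 3, 5, 1] (flipR s)

theorem runA : run chevE6 WA (1 <<< 36) stepsA = 2 ^ chevE6.nroots - 1 := by decide +kernel

theorem runB : run chevE6 WB (1 <<< 0) stepsB = 2 ^ chevE6.nroots - 1 := by decide +kernel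

def nv (l : List ℤ) (i : ℕ) : ℤ := l.getD i 0

theorem prA : pr chevE6 (nv [-1, -1, -1, 1, 1, 1]) 36 chevE6.rank = 1 ∧
    pr chevE6 (nv [-1, -1, -1, 1, 1, 1]) 37 chevE6.rank = 0 ∧
    pr chevE6 (nv [-1, -1, -1, -1, 0, 0]) 36 chevE6.rank = 0 ∧
    pr chevE6 (nv [-1, -1, -1, -1, 0, 0]) 37 chevE6.rank = 1 := by decide +kernel

theorem prB : pr chevE6 (nv [-1, -1, -1, -1, -1, -1]) 0 chevE6.rank = 1 ∧
    pr chevE6 (nv [-1, -1, -1, -1, -1, -1]) 1 chevE6.rank = 0 ∧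
    pr chevE6 (nv [-1, 0, -1, -1, -1, -1]) 0 chevE6.rank = 0 ∧
    pr chevE6 (nv [-1, 0, -1, -1, -1, -1]) 1 chevE6.rank = 1 := by decide +kernel

theorem prAsq : pr chevE6 (nv [-1, -1, -1, -1, 0, 1]) 36 chevE6.rank +
      pr chevE6 (nv [-1, -1, -1, -1, 0, 1]) (flipR 36) chevE6.rank = 1 ∧
    pr chevE6 (nv [-1, -1, -1, -1, 0, 1]) 37 chevE6.rank +
      pr chevE6 (nv [-1, -1, -1, -1, 0, 1]) (flipR 37) chevE6.rank = 0 ∧
    pr chevE6 (nv [0, -1, 1, 1, 1, 1]) 36 chevE6.rank +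
      pr chevE6 (nv [0, -1, 1, 1, 1, 1]) (flipR 36) chevE6.rank = 0 ∧
    pr chevE6 (nv [0, -1, 1, 1, 1, 1]) 37 chevE6.rank +
      pr chevE6 (nv [0, -1, 1, 1, 1, 1]) (flipR 37) chevE6.rank = 1 := by decide +kernel

end Cfsg.Agent.H20.Cos2
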